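import Groth.Agent.Lib.RegSeq26.FlatBC
import Groth.Agent.Lib.CI2.RImmComp
import Groth.Agent.Lib.AlgSpDescent.SchemeSmooth
import Groth.Agent.S2104
import Groth.Agent.S2105
import Groth.Agent.S9849

/-!
# Composition and etale descent of regular immersions of the kinds `h1` and `quasi`
-/

set_option autoImplicit false
set_option backward.isDefEq.respectTransparency.types false
set_option linter.style.haveILetI false

universe u

open CategoryTheory CategoryTheory.Limits AlgebraicGeometry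

namespace Groth.Agent.RegImmKinds2

theorem seq_h1_quasi_of_flat {A B : Type u} [CommRing A] [CommRing B] [Algebra A B] [Module.Flat A B]
    {k : RegImm.Kind} (hk : k = .h1 ∨ k = .quasi) {rs : List A} (h : k.Seq A rs) :
    k.Seq B (rs.map (algebraMap A B)) := by
  obtain rfl | rfl := hk
  · exact RegSeq26.transfer_h1 _ rs (RegSeq26.isH1Regular_of_flat h)
  · exact RegSeq26.transfer_quasi _ rs (RegSeq26.isQuasiRegular_of_flat h)

theorem exists_lift_append {A A' A'' : Type u} [CommRing A] [CommRing A'] [CommRing A''] (σ : A →+* A')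
    (τ : A' →+* A'') (hσ : Function.Surjective σ) {k : RegImm.Kind} (hk : k = .h1 ∨ k = .quasi) {l : List A}
    (hker : RingHom.ker σ = Ideal.ofList l) (hl : k.Seq A l) {m : List A'}
    (hτ : RingHom.ker τ = Ideal.ofList m) (hm : CAlgX.IsH1Regular m.get) :
    ∃ L : List A, k.Seq A L ∧ RingHom.ker (τ.comp σ) = Ideal.ofList L := by
  choose li hli using fun x => hσ x
  let f : Fin l.length → A := l.get
  let g : Fin m.length → A := fun j => li (m.get j)
  have hspan : Ideal.span (Set.range f) = RingHom.ker σ := by rw [hker, Set.range_list_get]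
  let e₀ : A ⧸ Ideal.span (Set.range f) ≃+* A' :=
    (Ideal.quotEquivOfEq hspan).trans (RingHom.quotientKerEquivOfSurjective hσ)
  have he : ∀ a, e₀ (Ideal.Quotient.mk _ a) = σ a := fun a => rfl
  letI : Algebra A' (A ⧸ Ideal.span (Set.range f)) := e₀.symm.toRingHom.toAlgebra
  haveI : Module.Flat A' (A ⧸ Ideal.span (Set.range f)) :=
    RingHom.Flat.of_bijective (f := e₀.symm.toRingHom) e₀.symm.bijective
  have hg : CAlgX.IsH1Regular (fun j => Ideal.Quotient.mk (Ideal.span (Set.range f)) (g j)) := by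
    have h := RegSeq26.isH1Regular_of_flat (B := A ⧸ Ideal.span (Set.range f)) hm
    convert h using 1
    funext j
    refine e₀.injective ?_
    rw [he, hli]
    exact (e₀.apply_symm_apply _).symm
  let L : List A := List.ofFn (Fin.append f g)
  have hker' : RingHom.ker (τ.comp σ) = Ideal.ofList L := by
    have e1 : Ideal.ofList L = Ideal.span (Set.range (Fin.append f g)) := by
      show Ideal.span {x | x ∈ L} = _
      congr 1
      ext x
      simp only [L, Set.mem_setOf_eq, List.mem_ofFn, Set.mem_range]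
    have e3 : Set.range (Fin.append f g) = Set.range f ∪ Set.range g := by
      ext x
      constructor
      · rintro ⟨i, rfl⟩
        refine Fin.addCases (fun i => ?_) (fun j => ?_) i
        · exact Or.inl ⟨i, (Fin.append_left f g i).symm⟩
        · exact Or.inr ⟨j, (Fin.append_right f g j).symm⟩
      · rintro (⟨i, rfl⟩ | ⟨j, rfl⟩)
        · exact ⟨_, Fin.append_left f g i⟩
        · exact ⟨_, Fin.append_right f g j⟩
    have e2 : Ideal.ofList m = Ideal.map σ (Ideal.span (Set.range g)) := by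
      rw [Ideal.map_span, ← Set.range_comp, show σ ∘ g = m.get from funext fun j => hli _, Set.range_list_get]
    rw [e1, e3, Ideal.span_union, hspan, ← RingHom.comap_ker, hτ, e2,
      Ideal.comap_map_of_surjective _ hσ, ← RingHom.ker_eq_comap_bot, sup_comm]
  refine ⟨L, ?_, hker'⟩
  obtain rfl | rfl := hk
  · refine RegSeq26.transport (P := @fun c (F : Fin c → A) => CAlgX.IsH1Regular F) (List.length_ofFn).symm _ _
      (fun i => ?_) (S2105.result f g hl hg)
    simp only [L, List.get_eq_getElem, List.getElem_ofFn]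
    rfl
  · refine RegSeq26.transport (P := @fun c (F : Fin c → A) => CAlgX.IsQuasiRegular F) (List.length_ofFn).symm _ _
      (fun i => ?_) (S2104.result f g hl hg)
    simp only [L, List.get_eq_getElem, List.getElem_ofFn]
    rfl

variable {X Y Z : Scheme.{u}} (i : Y ⟶ X) (j : Z ⟶ Y)

/-- A composite of an immersion of kind `h1` followed by one of kind `k` has kind `k`. -/
theorem comp_h1_quasi {k : RegImm.Kind} (hk : k = .h1 ∨ k = .quasi) (hi : RegImm.IsRegularImmersion k i)
    (hj : RegImm.IsRegularImmersion .h1 j) : RegImm.IsRegularImmersion k (j ≫ i) := by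
  haveI := hi.1
  haveI := hj.1
  refine ⟨inferInstance, fun z => ?_⟩
  obtain ⟨⟨U, hU⟩, hzU, hclU, rs, hrs, hkrs⟩ := hi.2 (j z)
  obtain ⟨⟨V, hV⟩, hzV, hclV, ts, hts, hkts⟩ := hj.2 z
  haveI := hclU
  haveI := hclV
  obtain ⟨hW, hs⟩ := CI2.surjective_app_of_closed i hU
  obtain ⟨f, h, hfh, hxf⟩ := exists_basicOpen_le_affine_inter hW hV (j z) ⟨hzU, hzV⟩
  obtain ⟨g, rfl⟩ := hs f
  rw [show Y.basicOpen ((i.app U).hom g) = i ⁻¹ᵁ X.basicOpen g from (Scheme.preimage_basicOpen i g).symm] at hfh hxf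
  let D := X.basicOpen g
  have hD : IsAffineOpen D := hU.basicOpen g
  haveI := hU.isLocalization_basicOpen g
  haveI : IsClosedImmersion (i ∣_ D) := CI2.isClosedImmersion_restrict_of_le i (X.basicOpen_le g)
  obtain ⟨hWD, hsD⟩ := CI2.surjective_app_of_closed i hD
  have hleV : i ⁻¹ᵁ D ≤ V := hfh ▸ Y.basicOpen_le h
  haveI : IsClosedImmersion (j ∣_ (i ⁻¹ᵁ D)) := CI2.isClosedImmersion_restrict_of_le j hleV
  letI : Algebra Γ(Y, V) Γ(Y, i ⁻¹ᵁ D) := (Y.presheaf.map (homOfLE hleV).op).hom.toAlgebra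
  haveI : IsLocalization.Away h Γ(Y, i ⁻¹ᵁ D) := hV.isLocalization_of_eq_basicOpen h (homOfLE hleV) hfh
  haveI : Module.Flat Γ(X, U) Γ(X, D) := IsLocalization.flat Γ(X, D) (Submonoid.powers g)
  haveI : Module.Flat Γ(Y, V) Γ(Y, i ⁻¹ᵁ D) := IsLocalization.flat Γ(Y, i ⁻¹ᵁ D) (Submonoid.powers h)
  have hl := seq_h1_quasi_of_flat (B := Γ(X, D)) hk hrs
  have hm := seq_h1_quasi_of_flat (B := Γ(Y, i ⁻¹ᵁ D)) (k := .h1) (Or.inl rfl) hts
  have hkl : RingHom.ker (i.app D).hom = Ideal.ofList (rs.map (algebraMap Γ(X, U) Γ(X, D))) := by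
    rw [CI2.ker_app_basicOpen i hU g rfl (X.basicOpen_le g), hkrs, Ideal.map_ofList]
    rfl
  have hkm : RingHom.ker (j.app (i ⁻¹ᵁ D)).hom = Ideal.ofList (ts.map (algebraMap Γ(Y, V) Γ(Y, i ⁻¹ᵁ D))) := by
    rw [CI2.ker_app_basicOpen j hV h hfh hleV, hkts, Ideal.map_ofList]
    rfl
  obtain ⟨L, hL, hLker⟩ := exists_lift_append (i.app D).hom (j.app (i ⁻¹ᵁ D)).hom hsD hk hkl hl hkm hm
  refine ⟨⟨D, hD⟩, hxf, ?_, L, hL, ?_⟩
  · show IsClosedImmersion ((j ≫ i) ∣_ D)
    rw [morphismRestrict_comp]; exact MorphismProperty.comp_mem @IsClosedImmersion _ _ ‹_› ‹_›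
  · show RingHom.ker ((j ≫ i).app D).hom = _
    rw [Scheme.Hom.comp_app]
    exact hLker

/-- Regularity of an immersion may be checked on an open cover of the target. -/
theorem of_opens {Y X : Scheme.{u}} (i : Y ⟶ X) [IsImmersion i] {k : RegImm.Kind} (hk : k ≠ .regular)
    (h : ∀ z : Y, ∃ U : X.Opens, i z ∈ U ∧ RegImm.IsRegularImmersion k (pullback.snd i U.ι)) :
    RegImm.IsRegularImmersion k i := by
  refine ⟨‹_›, fun z => ?_⟩
  obtain ⟨U, hzU, hU⟩ := h z
  have sq : IsPullback (pullback.fst i U.ι) (pullback.snd i U.ι) i U.ι := IsPullback.of_hasPullback i U.ι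
  haveI := hU.1
  obtain ⟨z', hz', hz'2⟩ := Scheme.Pullback.exists_preimage_pullback (f := i) (g := U.ι) z ⟨i z, hzU⟩ rfl
  obtain ⟨⟨W, hW⟩, hzW, hcl, rs, hrs, hker⟩ := hU.2 z'
  rw [hz'2] at hzW
  let W' : X.Opens := U.ι ''ᵁ W
  have hW' : IsAffineOpen W' := hW.image_of_isOpenImmersion U.ι
  have hle : W ≤ U.ι ⁻¹ᵁ W' := (U.ι.preimage_image_eq W).ge
  have hzW' : i z ∈ W' := ⟨⟨i z, hzU⟩, hzW, rfl⟩
  have hcl' : IsClosedImmersion (i ∣_ W') := by
    refine CI2.isClosedImmersion_restrict_of_range i ?_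
    have hclo := hcl.base_closed.isClosed_range
    rw [CI2.range_restrict] at hclo
    have hmem : ∀ x : W', ∃ w : U.toScheme, w ∈ W ∧ U.ι w = x.1 := fun x => x.2
    choose c hc hc' using hmem
    have hcont : Continuous (fun x : W' => (⟨c x, hc x⟩ : W)) := by
      refine Continuous.subtype_mk ?_ hc
      rw [U.ι.isOpenEmbedding.isInducing.continuous_iff]
      rw [show U.ι ∘ c = Subtype.val from funext hc']
      exact continuous_subtype_val
    have hset : W'.ι ⁻¹' Set.range i =
        (fun x : W' => (⟨c x, hc x⟩ : W)) ⁻¹' (W.ι ⁻¹' Set.range (pullback.snd i U.ι)) := by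
      ext x
      constructor
      · rintro ⟨y, hy⟩
        obtain ⟨y', -, hy'⟩ := Scheme.Pullback.exists_preimage_pullback (f := i) (g := U.ι) y (c x)
          (hy.trans (hc' x).symm)
        exact ⟨y', hy'⟩
      · rintro ⟨y', hy'⟩
        refine ⟨pullback.fst i U.ι y', ?_⟩
        rw [← Scheme.Hom.comp_apply, pullback.condition, Scheme.Hom.comp_apply]
        exact (congrArg U.ι hy').trans (hc' x)
    rw [hset]
    exact hclo.preimage hcont
  haveI := hcl'
  refine ⟨⟨W', hW'⟩, hzW', hcl', ?_⟩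
  let φ := U.ι.appLE W' W hle
  have hφ : Function.Bijective φ.hom := by
    haveI : IsIso φ := by
      show IsIso (U.ι.appLE W' W hle)
      rw [Scheme.Opens.ι_appLE]
      have hmapiso : ∀ {A₁ A₂ : X.Opens} (h₁ : A₁ = A₂) (hh : A₁ ≤ A₂), IsIso (X.presheaf.map (homOfLE hh).op) := by
        intro A₁ A₂ h₁ hh
        subst h₁
        rw [Subsingleton.elim (homOfLE hh) (𝟙 A₁), op_id, X.presheaf.map_id]
        infer_instance
      exact hmapiso rfl _
    exact ConcreteCategory.bijective_of_isIso φ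
  have hk' : RingHom.ker ((pullback.snd i U.ι).app W).hom = (RingHom.ker (i.app W').hom).map φ.hom :=
    CI2.ker_app_of_isPullback i U.ι _ _ sq hW' hW hle
  let ψ := (RingEquiv.ofBijective φ.hom hφ).symm
  letI : Algebra Γ(U.toScheme, W) Γ(X, W') := ψ.toRingHom.toAlgebra
  haveI : Module.Flat Γ(U.toScheme, W) Γ(X, W') := RingHom.Flat.of_bijective (f := ψ.toRingHom) ψ.bijective
  have hI : RingHom.ker (i.app W').hom = Ideal.ofList (rs.map (algebraMap Γ(U.toScheme, W) Γ(X, W'))) := by
    rw [← Ideal.map_ofList, ← hker, hk', Ideal.map_map]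
    refine ((congrArg (fun f => Ideal.map f (RingHom.ker (i.app W').hom)) ?_).trans (Ideal.map_id _)).symm
    exact RingHom.ext fun a => (RingEquiv.ofBijective φ.hom hφ).symm_apply_apply a
  exact ⟨_, by
    cases k with
    | regular => exact absurd rfl hk
    | koszul =>
      refine RegSeq26.seq_of_flat .koszul hrs ?_
      intro htop
      have hy : ∃ y : Y, i y ∈ W' := ⟨z, hzW'⟩
      have hle' := CI2.ker_le_primeIdealOf i hW' (z := z) hzW'
      rw [hI, htop, top_le_iff] at hle'
      exact (hW'.primeIdealOf ⟨i z, hzW'⟩).isPrime.ne_top hle'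
    | h1 => exact seq_h1_quasi_of_flat (Or.inl rfl) hrs
    | quasi => exact seq_h1_quasi_of_flat (Or.inr rfl) hrs, hI⟩

/-- Descent along flat open surjections. -/
theorem descent_open {X Y X' Y' : Scheme.{u}} (i : Y ⟶ X) [IsImmersion i] (g : X' ⟶ X) [Flat g]
    [Surjective g] (hopen : IsOpenMap g) (i' : Y' ⟶ X') (g' : Y' ⟶ Y) (hsq : IsPullback g' i' i g)
    {k : RegImm.Kind} (hk : k ≠ .regular) (hi' : RegImm.IsRegularImmersion k i') :
    RegImm.IsRegularImmersion k i := by
  refine of_opens i hk fun z => ?_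
  obtain ⟨U, hU, hzU, -, -⟩ := CI2.exists_affine_closed i z (V := ⊤) trivial
  refine ⟨U, hzU, ?_⟩
  haveI : IsAffine U.toScheme := hU
  haveI : Surjective (g ∣_ U) := IsZariskiLocalAtTarget.restrict (P := @Surjective) inferInstance U
  haveI : CompactSpace U.toScheme := isCompact_iff_compactSpace.1 hU.isCompact
  have hopenU : IsOpenMap (g ∣_ U) := by
    intro O hO
    have : U.ι '' ((g ∣_ U) '' O) = g '' ((g ⁻¹ᵁ U).ι '' O) := by
      rw [← Set.image_comp, ← Set.image_comp]
      exact Set.image_congr' fun x => by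
        show (g ∣_ U ≫ U.ι) x = ((g ⁻¹ᵁ U).ι ≫ g) x
        rw [morphismRestrict_ι]
    rw [U.ι.isOpenEmbedding.isOpen_iff_image_isOpen, this]
    exact hopen _ ((g ⁻¹ᵁ U).ι.isOpenEmbedding.isOpenMap _ hO)
  obtain ⟨ι, _, V, hV, hsurj⟩ := AlgSpDescent.exists_affine_open_surjective (g ∣_ U) hopenU
  haveI : ∀ j, IsAffine (V j).toScheme := fun j => hV j
  haveI := hsurj
  let X'' : Scheme.{u} := ∐ fun j => (V j).toScheme
  let d : X'' ⟶ U.toScheme := Sigma.desc fun j => (V j).ι ≫ g ∣_ U
  let m : X'' ⟶ X' := Sigma.desc fun j => (V j).ι ≫ (g ⁻¹ᵁ U).ι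
  haveI := HasRingHomProperty.instIsZariskiLocalAtSource (P := @Flat.{u}) (Q := RingHom.Flat)
  haveI : Flat d := IsZariskiLocalAtSource.sigmaDesc (P := @Flat.{u}) fun j => inferInstance
  haveI : Flat m := IsZariskiLocalAtSource.sigmaDesc (P := @Flat.{u}) fun j => inferInstance
  haveI : QuasiCompact d := inferInstance
  have hdm : d ≫ U.ι = m ≫ g := by
    apply Sigma.hom_ext
    intro j
    simp [d, m, morphismRestrict_ι]
  let iU := pullback.snd i U.ι
  haveI := hi'.1
  have h1 : IsPullback (pullback.fst i' m ≫ g') (pullback.snd i' m) i (d ≫ U.ι) := by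
    rw [hdm]
    exact (IsPullback.of_hasPullback i' m).paste_horiz hsq
  let g'' : pullback i' m ⟶ pullback i U.ι :=
    pullback.lift (pullback.fst i' m ≫ g') (pullback.snd i' m ≫ d) (by rw [Category.assoc (pullback.snd i' m)]; exact h1.w)
  have h2 : IsPullback g'' (pullback.snd i' m) iU d :=
    IsPullback.of_right (by rw [pullback.lift_fst]; exact h1) (pullback.lift_snd _ _ _)
      (IsPullback.of_hasPullback i U.ι)
  have h3 := RegSeq26.isRegularImmersion_baseChange k i' m _ _ (IsPullback.of_hasPullback i' m) hi'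
  have h4 : RegImm.IsRegularImmersion k (pullback.snd iU d) :=
    RegSeq26.isRegularImmersion_baseChange k (pullback.snd i' m) (𝟙 X'') (pullback.snd iU d) h2.isoPullback.inv
      (IsPullback.of_horiz_isIso ⟨by rw [Category.comp_id, IsPullback.isoPullback_inv_snd]⟩) h3
  exact S9849.result iU d k hk h4

end Groth.Agent.RegImmKinds2
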