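import Groth.Agent.Lib.RegImmKinds2.Scheme
import Groth.Agent.Lib.AlgSpace.ImmDescent
import Groth.Agent.Lib.PerfLCI4.Kind
import Groth.Agent.S2103
import Groth.Agent.Lib.Cyc26.KoszulH1
import Groth.Prelude.Def_AlgSpMor6

/-!
# Regular immersions of algebraic spaces: charts
-/

universe u

set_option backward.isDefEq.respectTransparency.types false
set_option linter.style.haveILetI false

open CategoryTheory CategoryTheory.Limits AlgebraicGeometry AlgSp Opposite

namespace Groth.Agent.RegImmKinds2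

open Groth.Agent.AlgSpace

variable {S : Scheme.{u}} {F G : Sp S}

/-- Regularity over `V` follows from regularity over an etale atlas, provided the comparison map is flat. -/
theorem regImm_of_atlas {k : RegImm.Kind} (hk : k ≠ .regular) {i : F ⟶ G} (hi : RepWith @IsImmersion i)
    {U : Over S} {c : (yon S).obj U ⟶ G} (hce : RepWith @Etale c) (hcs : RepWith @Surjective c)
    (hU : RegImm.IsRegularImmersion k (hi.1.snd c).left)
    {V W : Over S} (b : (yon S).obj V ⟶ G) (hflat : Flat (hcs.1.fst' b).left)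
    (fst : (yon S).obj W ⟶ F) (snd : W ⟶ V) (sq : IsPullback fst ((yon S).map snd) i b) :
    RegImm.IsRegularImmersion k snd.left := by
  haveI : IsImmersion snd.left := hi.2 b fst snd sq
  let ε : hcs.1.pullback b ⟶ V := hcs.1.snd b
  let kk : hcs.1.pullback b ⟶ U := hcs.1.fst' b
  have sqc := hcs.1.isPullback' b
  haveI hεe : Etale ε.left := hce.2 b _ _ (hcs.1.isPullback b)
  haveI : Surjective ε.left := hcs.2 b _ _ (hcs.1.isPullback b)
  haveI : Flat kk.left := hflat
  have sqW : IsPullback (pullback.fst snd ε).left (pullback.snd snd ε).left snd.left ε.left :=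
    (IsPullback.of_hasPullback snd ε).map (Over.forget S)
  have big : IsPullback ((yon S).map (pullback.fst snd ε) ≫ fst) ((yon S).map (pullback.snd snd ε)) i
      ((yon S).map kk ≫ c) := by
    have e : (yon S).map kk ≫ c = (yon S).map ε ≫ b := sqc.w
    rw [e]
    exact ((IsPullback.of_hasPullback snd ε).map (yon S)).paste_horiz sq
  let g : pullback snd ε ⟶ hi.1.pullback c := hi.1.lift ((yon S).map (pullback.fst snd ε) ≫ fst)
    (pullback.snd snd ε ≫ kk) (by rw [big.w, Functor.map_comp, Category.assoc])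
  have hg1 : (yon S).map g ≫ hi.1.fst c = (yon S).map (pullback.fst snd ε) ≫ fst := hi.1.lift_fst _ _ _
  have hg2 : g ≫ hi.1.snd c = pullback.snd snd ε ≫ kk := hi.1.lift_snd _ _ _
  have small : IsPullback ((yon S).map g) ((yon S).map (pullback.snd snd ε)) ((yon S).map (hi.1.snd c))
      ((yon S).map kk) :=
    IsPullback.of_right (by rw [hg1]; exact big) (by rw [← Functor.map_comp, hg2, Functor.map_comp])
      (hi.1.isPullback c)
  have small' : IsPullback g.left (pullback.snd snd ε).left (hi.1.snd c).left kk.left :=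
    (IsPullback.of_map (yon S) (by rw [hg2]) small).map (Over.forget S)
  exact descent_open snd.left ε.left ε.left.isOpenMap _ _ sqW hk
    (RegSeq26.isRegularImmersion_baseChange k (hi.1.snd c).left kk.left _ _ small' hU)

theorem repWith_immersion {k : RegImm.Kind} (hG : IsAlgSpace G) {i : F ⟶ G} (hi : IsRegImmMor k i) :
    RepWith @IsImmersion i := by
  obtain ⟨U, c, hce, hcs⟩ := hG.atlas
  exact repWith_immersion_of_etale_cover hce hcs (hi.1.isPullback c)
    ((repWith_yon_map_iff _ _).2 (hi.2 c _ _ hce (hi.1.isPullback c)).1)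

theorem flat_fst' {U : Over S} {c : (yon S).obj U ⟶ G} (hcs : RepWith @Surjective c)
    {V : Over S} (b : (yon S).obj V ⟶ G) (hbe : RepWith @Etale b) : Flat (hcs.1.fst' b).left := by
  haveI : Etale (hcs.1.fst' b).left :=
    (repWith_yon_map_iff _ _).1 (repWith_of_isPullback (hcs.1.isPullback' b).flip hbe)
  infer_instance

/-- Flat base change. -/
theorem isRegImmMor_flat_baseChange {k : RegImm.Kind} (hk : k ≠ .regular) {Z X X' P : Space S} {i : Z ⟶ X}
    {g : X' ⟶ X} (hi : IsRegImmMor k i.hom) (hg : LocP @Flat g.hom) {fst : P ⟶ Z} {i' : P ⟶ X'}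
    (sq : IsPullback fst.hom i'.hom i.hom g.hom) : IsRegImmMor k i'.hom := by
  refine ⟨representable_of_isPullback sq hi.1, fun V W b fstW snd hbe sqW => ?_⟩
  obtain ⟨U, c, hce, hcs⟩ := X.property.atlas
  have himm := repWith_immersion X.property hi
  haveI hεe : Etale (hcs.1.snd (b ≫ g.hom)).left := hce.2 (b ≫ g.hom) _ _ (hcs.1.isPullback (b ≫ g.hom))
  refine regImm_of_atlas hk himm hce hcs (hi.2 c _ _ hce (himm.1.isPullback c)) (b ≫ g.hom) ?_ _ snd
    (sqW.paste_horiz sq)
  exact hg ((yon S).map (hcs.1.snd (b ≫ g.hom)) ≫ b) c _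
    (repWith_comp ((repWith_yon_map_iff _ _).2 hεe) hbe) hce
    (by rw [Category.assoc]; exact (hcs.1.isPullback' (b ≫ g.hom)).w.symm)

/-- Composites. -/
theorem isRegImmMor_comp {k k₁ k₂ : RegImm.Kind}
    (H : ∀ {A B C : Scheme.{u}} (f : A ⟶ B) (g : B ⟶ C), RegImm.IsRegularImmersion k₁ f →
      RegImm.IsRegularImmersion k₂ g → RegImm.IsRegularImmersion k (f ≫ g))
    {E F G : Sp S} {i : E ⟶ F} {j : F ⟶ G} (hi : IsRegImmMor k₁ i) (hj : IsRegImmMor k₂ j) :
    IsRegImmMor k (i ≫ j) := by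
  refine ⟨MorphismProperty.comp_mem _ _ _ hi.1 hj.1, fun V W b fst snd hbe sq => ?_⟩
  have hbY : RepWith @Etale (hj.1.fst b) := repWith_of_isPullback (hj.1.isPullback b).flip hbe
  let l : W ⟶ hj.1.pullback b := hj.1.lift (fst ≫ i) snd (by rw [Category.assoc]; exact sq.w)
  have hl1 : (yon S).map l ≫ hj.1.fst b = fst ≫ i := hj.1.lift_fst _ _ _
  have hl2 : l ≫ hj.1.snd b = snd := hj.1.lift_snd _ _ _
  have sq1 : IsPullback fst ((yon S).map l) i (hj.1.fst b) :=
    IsPullback.of_bot (by rw [← Functor.map_comp, hl2]; exact sq) hl1.symm (hj.1.isPullback b)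
  have h1 := hi.2 (hj.1.fst b) fst l hbY sq1
  have h2 := hj.2 b _ _ hbe (hj.1.isPullback b)
  rw [← hl2, Over.comp_left]
  exact H l.left (hj.1.snd b).left h1 h2

theorem isRegImmMor_mono {k k' : RegImm.Kind}
    (H : ∀ {A B : Scheme.{u}} (f : A ⟶ B), RegImm.IsRegularImmersion k f → RegImm.IsRegularImmersion k' f)
    {i : F ⟶ G} (hi : IsRegImmMor k i) : IsRegImmMor k' i :=
  ⟨hi.1, fun _ _ b fst snd hbe sq => H snd.left (hi.2 b fst snd hbe sq)⟩

theorem h1_of_koszul {A B : Scheme.{u}} (i : A ⟶ B) (h : RegImm.IsRegularImmersion .koszul i) :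
    RegImm.IsRegularImmersion .h1 i := by
  refine ⟨h.1, fun z => ?_⟩
  obtain ⟨U, hz, hcl, rs, hrs, hker⟩ := h.2 z
  exact ⟨U, hz, hcl, rs, Cyc26.isH1Regular_of_isKoszulRegularSeq rs hrs, hker⟩

theorem quasi_of_h1 {A B : Scheme.{u}} (i : A ⟶ B) (h : RegImm.IsRegularImmersion .h1 i) :
    RegImm.IsRegularImmersion .quasi i := by
  refine ⟨h.1, fun z => ?_⟩
  obtain ⟨U, hz, hcl, rs, hrs, hker⟩ := h.2 z
  exact ⟨U, hz, hcl, rs, S2103.result rs.get hrs, hker⟩

/-- Over a locally Noetherian space quasi-regular immersions are Koszul-regular. -/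
theorem koszul_of_locNoeth (hG : IsAlgSpace G) (hN : IsLocNoethSp G) {k : RegImm.Kind} {i : F ⟶ G}
    (hi : IsRegImmMor k i) : IsRegImmMor .koszul i := by
  refine ⟨hi.1, fun V W b fst snd hbe sq => ?_⟩
  obtain ⟨U, c, hce, hcs, hUN⟩ := hN
  haveI := hUN
  have himm := repWith_immersion hG hi
  exact regImm_of_atlas (by decide) himm hce hcs
    (PerfLCI4.koszul_of_kind _ (hi.2 c _ _ hce (himm.1.isPullback c))) b (flat_fst' hcs b hbe) fst snd sq

end Groth.Agent.RegImmKinds2
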